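import Mathlib

/-!
Coefficientwise detection of kernels after a base change of a field: if `P = A ⊗_K K'` and
`Q j = B j ⊗_K K'`, an element of `P` killed by every `P → Q j` lies in the extension of
`⨅ j, ker (A → B j)`.
-/

universe u w

open CategoryTheory Limits

namespace GrothLib.VanBC

theorem exists_basis_of_isPushout {K K' A P : CommRingCat.{u}} {φ : K ⟶ A} {ψ : K ⟶ K'}
    {inl : A ⟶ P} {inr : K' ⟶ P} (h : IsPushout φ ψ inl inr) {ι : Type*}
    (b : letI := ψ.hom.toAlgebra; Module.Basis ι K K') :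
    ∃ B : (letI := inl.hom.toAlgebra; Module.Basis ι A P), ∀ i,
      (letI := inl.hom.toAlgebra; B i) = inr.hom (letI := ψ.hom.toAlgebra; b i) := by
  let _ : Algebra K A := φ.hom.toAlgebra
  let _ : Algebra K K' := ψ.hom.toAlgebra
  let _ : Algebra A P := inl.hom.toAlgebra
  let _ : Algebra K' P := inr.hom.toAlgebra
  let _ : Algebra K P := (φ ≫ inl).hom.toAlgebra
  have : IsScalarTower K A P := .of_algebraMap_eq fun _ => rfl
  have : IsScalarTower K K' P := .of_algebraMap_eq fun x => congr($(h.w) x)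
  have hp : Algebra.IsPushout K A K' P := CommRingCat.isPushout_iff_isPushout.mp h
  refine ⟨(b.baseChange A).map hp.out.equiv, fun i => ?_⟩
  rw [Module.Basis.map_apply, Module.Basis.baseChange_apply, IsBaseChange.equiv_tmul, one_smul]
  rfl

theorem mem_map_of_forall {K K' A P : CommRingCat.{u}} (hK : IsField K) {φ : K ⟶ A} {ψ : K ⟶ K'}
    {inl : A ⟶ P} {inr : K' ⟶ P} (h : IsPushout φ ψ inl inr) {J : Type w}
    {B Q : J → CommRingCat.{u}} {φB : ∀ j, K ⟶ B j} {inlB : ∀ j, B j ⟶ Q j}
    {inrB : ∀ j, K' ⟶ Q j} (hB : ∀ j, IsPushout (φB j) ψ (inlB j) (inrB j))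
    (g : ∀ j, A ⟶ B j) (g' : ∀ j, P ⟶ Q j) (hl : ∀ j, inl ≫ g' j = g j ≫ inlB j)
    (hr : ∀ j, inr ≫ g' j = inrB j) (I : Ideal A)
    (hI : ∀ a, (∀ j, (g j).hom a = 0) → a ∈ I) (p : P) (hp : ∀ j, (g' j).hom p = 0) :
    p ∈ I.map inl.hom := by
  let _ : Field K := hK.toField
  let _ : Algebra K K' := ψ.hom.toAlgebra
  obtain ⟨⟨ι, b⟩⟩ := Module.Free.exists_basis K K'
  obtain ⟨bP, hbP⟩ := exists_basis_of_isPushout h b
  let _ : Algebra A P := inl.hom.toAlgebra
  rw [← bP.linearCombination_repr p]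
  have hc : ∀ i, bP.repr p i ∈ I := by
    refine fun i => hI _ fun j => ?_
    obtain ⟨bQ, hbQ⟩ := exists_basis_of_isPushout (hB j) b
    let _ : Algebra (B j) (Q j) := (inlB j).hom.toAlgebra
    have key : Finsupp.linearCombination (B j) bQ
        ((bP.repr p).mapRange (g j).hom (map_zero _)) = 0 := by
      rw [← hp j]
      conv_rhs => rw [← bP.linearCombination_repr p]
      rw [Finsupp.linearCombination_apply, Finsupp.linearCombination_apply,
        Finsupp.sum_mapRange_index (fun i => zero_smul (B j) (bQ i)), map_finsuppSum]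
      refine Finsupp.sum_congr fun i _ => ?_
      rw [Algebra.smul_def, Algebra.smul_def, map_mul, hbP i, hbQ i]
      have h1 := congr($(hl j) (bP.repr p i))
      have h2 := congr($(hr j) (b i))
      exact (congr_arg₂ (· * ·) h1 h2).symm
    have := linearIndependent_iff.mp bQ.linearIndependent _ key
    simpa using DFunLike.congr_fun this i
  rw [Finsupp.linearCombination_apply]
  refine Ideal.sum_mem _ fun i _ => ?_
  show bP.repr p i • bP i ∈ _
  rw [Algebra.smul_def]
  exact Ideal.mul_mem_right _ _ (Ideal.mem_map_of_mem inl.hom (hc i))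

end GrothLib.VanBC
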