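import Groth.Agent.Lib.VanBC.Algebra
import Groth.Agent.Lib.CycNorm12.Local
import Groth.Prelude.Def_FDesc

/-!
The reduced ideal of the closure of a union of images of geometrically reduced schemes commutes
with extension of the ground field.
-/

universe u w

open CategoryTheory Limits AlgebraicGeometry TopologicalSpace Groth

namespace GrothLib.VanBC

theorem mem_vanishingIdeal_closure {X : Scheme.{u}} (S : Set X) (U : X.affineOpens) (a : Γ(X, U.1)) :
    a ∈ (Scheme.IdealSheafData.vanishingIdeal (Closeds.closure S)).ideal U ↔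
      Disjoint (X.basicOpen a : Set X) S := by
  have h1 : Disjoint (X.basicOpen a : Set X) S ↔ Disjoint (X.basicOpen a : Set X) (closure S) :=
    ⟨fun h => h.closure_right (X.basicOpen a).2, fun h => h.mono_right subset_closure⟩
  rw [h1, Scheme.IdealSheafData.vanishingIdeal_ideal, PrimeSpectrum.mem_vanishingIdeal,
    Set.disjoint_left]
  constructor
  · intro h x hx hxS
    obtain ⟨y, rfl⟩ : x ∈ Set.range U.2.fromSpec := by
      rw [U.2.range_fromSpec]; exact X.basicOpen_le a hx
    have hy : y ∈ U.2.fromSpec ⁻¹ᵁ X.basicOpen a := hx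
    rw [U.2.fromSpec_preimage_basicOpen] at hy
    exact hy (h y hxS)
  · intro h y hy
    by_contra hay
    have : y ∈ U.2.fromSpec ⁻¹ᵁ X.basicOpen a := by
      rw [U.2.fromSpec_preimage_basicOpen]; exact hay
    exact h this hy

/-- Restriction to an open below a preimage kills `a` if `a` vanishes on the image of a reduced scheme. -/
theorem appLE_eq_zero {X Z : Scheme.{u}} [IsReduced Z] (f : Z ⟶ X) {U : X.Opens} {V : Z.Opens}
    (hV : V ≤ f ⁻¹ᵁ U) (a : Γ(X, U)) (ha : ∀ z : Z, f z ∉ X.basicOpen a) :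
    (f.appLE U V hV).hom a = 0 := by
  refine (basicOpen_eq_bot_iff _).mp (bot_unique fun z hz => ?_)
  rw [Scheme.basicOpen_appLE] at hz
  exact absurd hz.2 (ha z)

theorem main {k : Type u} [Field k] {X : Scheme.{u}}
    (p : X ⟶ Spec (CommRingCat.of k)) {ι : Type u} (Z : ι → Scheme.{u}) (f : ∀ i, Z i ⟶ X)
    (hred : ∀ (i : ι) (z : Z i), FBase.IsGeomReducedAt (f i ≫ p) z)
    (k' : Type u) [Field k'] [Algebra k k']
    (q : Spec (CommRingCat.of k') ⟶ Spec (CommRingCat.of k))
    (hq : q = Spec.map (CommRingCat.ofHom (algebraMap k k')))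
    (f' : ∀ i, pullback (f i ≫ p) q ⟶ pullback p q)
    (hf₁ : ∀ i, f' i ≫ pullback.fst p q = pullback.fst (f i ≫ p) q ≫ f i)
    (hf₂ : ∀ i, f' i ≫ pullback.snd p q = pullback.snd (f i ≫ p) q) :
    Scheme.IdealSheafData.vanishingIdeal (Closeds.closure (⋃ i, Set.range (f' i))) =
      (Scheme.IdealSheafData.vanishingIdeal (Closeds.closure (⋃ i, Set.range (f i)))).comap
        (pullback.fst p q) := by
  have hZ' : ∀ i, IsReduced (pullback (f i ≫ p) q) := fun i => by
    have : ∀ x, _root_.IsReduced ((pullback (f i ≫ p) q).presheaf.stalk x) := by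
      subst hq
      exact fun x => hred i _ k' x rfl
    exact isReduced_of_isReduced_stalk _
  have : IsAffineHom q := isAffineHom_of_isAffine q
  have : IsAffineHom (pullback.fst p q) := MorphismProperty.pullback_fst _ _ ‹_›
  refine Scheme.IdealSheafData.ext_of_iSup_eq_top
    (fun U : X.affineOpens => ⟨pullback.fst p q ⁻¹ᵁ U.1, U.2.preimage _⟩) ?_ fun U => ?_
  · rw [← Scheme.Hom.preimage_iSup, iSup_affineOpens_eq_top X, Scheme.Hom.preimage_top]
  rw [CycNorm12.comap_ideal_preimage]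
  refine le_antisymm (fun b hb => ?_) (Ideal.map_le_iff_le_comap.mpr fun a ha => ?_)
  · rw [mem_vanishingIdeal_closure] at hb
    have hd : ∀ i, ∀ z, f' i z ∉ (pullback p q).basicOpen b := fun i z hz =>
      Set.disjoint_left.mp hb hz (Set.mem_iUnion.mpr ⟨i, z, rfl⟩)
    let J : Type u := Σ i, {V : (Z i).affineOpens // V.1 ≤ f i ⁻¹ᵁ U.1}
    have hsk : IsAffineOpen (⊤ : (Spec (CommRingCat.of k)).Opens) := isAffineOpen_top _
    have hsk' : IsAffineOpen (⊤ : (Spec (CommRingCat.of k')).Opens) := isAffineOpen_top _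
    have h := (isIso_pushoutSection_iff (IsPullback.of_hasPullback p q)
      (US := ⊤) (UT := ⊤) (UX := U.1) (UY := pullback.fst p q ⁻¹ᵁ U.1) le_top le_top
      (by simp)).mp (isIso_pushoutSection_of_isAffineOpen _ _ _ _ hsk hsk' U.2)
    have hB : ∀ j : J, _ := fun j =>
      (isIso_pushoutSection_iff (IsPullback.of_hasPullback (f j.1 ≫ p) q)
        (US := ⊤) (UT := ⊤) (UX := j.2.1.1) (UY := pullback.fst (f j.1 ≫ p) q ⁻¹ᵁ j.2.1.1)
        le_top le_top (by simp)).mp
        (isIso_pushoutSection_of_isAffineOpen _ _ _ _ hsk hsk' j.2.1.2)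
    have hle : ∀ j : J, pullback.fst (f j.1 ≫ p) q ⁻¹ᵁ j.2.1.1 ≤
        f' j.1 ⁻¹ᵁ (pullback.fst p q ⁻¹ᵁ U.1) := fun j => by
      rw [← Scheme.Hom.comp_preimage, hf₁, Scheme.Hom.comp_preimage]
      exact Scheme.Hom.preimage_mono _ j.2.2
    have := mem_map_of_forall (J := J) ((Scheme.ΓSpecIso (CommRingCat.of k)).commRingCatIsoToRingEquiv.toMulEquiv.isField (Field.toIsField k))
      h hB (fun j => (f j.1).appLE U.1 j.2.1.1 j.2.2)
      (fun j => (f' j.1).appLE _ _ (hle j)) ?_ ?_
      ((Scheme.IdealSheafData.vanishingIdeal (Closeds.closure (⋃ i, Set.range (f i)))).ideal U)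
      ?_ b fun j => (letI := hZ' j.1; appLE_eq_zero (f' j.1) (hle j) b (hd j.1))
    · rwa [Scheme.Hom.appLE_eq_app] at this
    · intro j
      simp only [Scheme.Hom.appLE_comp_appLE, hf₁]
    · intro j
      simp only [Scheme.Hom.appLE_comp_appLE, hf₂]
    · intro a ha
      rw [mem_vanishingIdeal_closure, Set.disjoint_left]
      rintro x hx hx'
      obtain ⟨i, z, rfl⟩ := Set.mem_iUnion.mp hx'
      have hzU : z ∈ f i ⁻¹ᵁ U.1 := X.basicOpen_le a hx
      obtain ⟨V, hV, hzV, hVU⟩ := exists_isAffineOpen_mem_and_subset hzU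
      have h0 : ((f i).appLE U.1 V hVU).hom a = 0 := ha ⟨i, ⟨V, hV⟩, hVU⟩
      have hz : z ∈ (Z i).basicOpen (((f i).appLE U.1 V hVU).hom a) := by
        rw [Scheme.basicOpen_appLE]; exact ⟨hzV, hx⟩
      rw [h0, Scheme.basicOpen_zero] at hz
      exact hz
  · rw [Ideal.mem_comap, mem_vanishingIdeal_closure]
    rw [mem_vanishingIdeal_closure] at ha
    refine Set.disjoint_left.mpr fun x hx hx' => ?_
    obtain ⟨i, z, rfl⟩ := Set.mem_iUnion.mp hx'
    rw [SetLike.mem_coe, ← Scheme.preimage_basicOpen] at hx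
    refine Set.disjoint_left.mp ha (show pullback.fst p q (f' i z) ∈ X.basicOpen a from hx) ?_
    refine Set.mem_iUnion.mpr ⟨i, pullback.fst (f i ≫ p) q z, ?_⟩
    rw [← Scheme.Hom.comp_apply, ← hf₁, Scheme.Hom.comp_apply]

end GrothLib.VanBC
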